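import Mathlib
import Groth.Prelude.Def_W4c6gradedringsgwSect
import Groth.Agent.FunFldLib.Extra
import Groth.Agent.FunFldLib.Order

set_option autoImplicit false

open WithZero Polynomial

namespace Groth.Agent.GrSect

open FunFld W4c6gradedringsgw FunFldLib

variable {k K : Type*} [Field k] [Field K] [Algebra k K]

/-- `n P` as a divisor -/
noncomputable abbrev nP (P : Place k K) (n : ℤ) : Divisor k K :=
  n • (Finsupp.single P 1 : Divisor k K)

theorem nP_self (P : Place k K) (n : ℤ) : nP P n P = n := by simp [nP]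

theorem nP_other {P Q : Place k K} (n : ℤ) (h : Q ≠ P) : nP P n Q = 0 := by
  simp [nP, Finsupp.single_eq_of_ne h]

theorem nP_deg [IsAlgClosed k] (hK : IsFunctionField k K) (P : Place k K) (n : ℤ) :
    (nP P n).deg = n := by
  have : nP P n = Finsupp.single P n := by simp [nP]
  rw [this, deg_single, deg_eq_one hK P]
  simp

theorem nP_mono (P : Place k K) {m n : ℤ} (h : m ≤ n) : nP P m ≤ nP P n := fun Q => by
  by_cases e : Q = P
  · subst e; rwa [nP_self, nP_self]
  · rw [nP_other _ e, nP_other _ e]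

theorem mem_LnP {P : Place k K} {n : ℤ} {x : K} :
    x ∈ L (nP P n) ↔ P.1 x ≤ exp n ∧ ∀ Q, Q ≠ P → Q.1 x ≤ 1 := by
  refine ⟨fun h => ⟨?_, fun Q hQ => ?_⟩, fun h Q => ?_⟩
  · have := h P; rwa [nP_self] at this
  · have := h Q; rwa [nP_other n hQ, exp_zero] at this
  · by_cases e : Q = P
    · subst e; rw [nP_self]; exact h.1
    · rw [nP_other n e, exp_zero]; exact h.2 Q e

variable [IsAlgClosed k]

theorem mem_poleOrders (hK : IsFunctionField k K) (P : Place k K) (n : ℕ) :
    n ∈ poleOrders P ↔ ∃ f ∈ L (nP P n), P.1 f = exp (n : ℤ) := by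
  have hfin := finite_L hK.1 (nP P n)
  have hle : L (nP P ((n : ℤ) - 1)) ≤ L (nP P n) := L_mono (nP_mono P (by omega))
  constructor
  · intro h
    have hne : ¬ L (nP P n) ≤ L (nP P ((n : ℤ) - 1)) := fun h' => by
      have := le_antisymm h' hle
      change ell (nP P n) = ell (nP P ((n : ℤ) - 1)) + 1 at h
      unfold ell at h
      rw [this] at h
      omega
    obtain ⟨f, hf, hf'⟩ := SetLike.not_le_iff_exists.1 hne
    refine ⟨f, hf, le_antisymm (mem_LnP.1 hf).1 ?_⟩
    by_contra hc
    exact hf' (mem_LnP.2 ⟨(lt_exp_iff _ _).1 (not_le.1 hc), (mem_LnP.1 hf).2⟩)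
  · rintro ⟨f, hf, hv⟩
    have hlt : L (nP P ((n : ℤ) - 1)) < L (nP P n) := lt_of_le_not_ge hle fun h' => by
      have := (mem_LnP.1 (h' hf)).1
      rw [hv, exp_le_exp] at this
      omega
    have h1 := Submodule.finrank_lt_finrank_of_lt hlt
    have h2 := ell_sub_le hK.1 (nP_mono P (show (n : ℤ) - 1 ≤ n by omega))
    rw [nP_deg hK, nP_deg hK] at h2
    show ell (nP P n) = ell (nP P ((n : ℤ) - 1)) + 1
    simp only [ell] at h2 ⊢
    omega

theorem L_zero' (hK : IsFunctionField k K) (P : Place k K) {x : K} (h : x ∈ L (nP P 0)) :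
    ∃ c : k, algebraMap k K c = x := by
  rw [show nP P 0 = 0 by simp [nP], L_zero hK, Submodule.mem_one] at h
  exact h

theorem L_one (hK : IsFunctionField k K) (hg : 1 ≤ genus k K) (P : Place k K) :
    L (nP P 1) = L (nP P 0) := by
  have := finite_L hK.1 (nP P 1)
  refine (Submodule.eq_of_le_of_finrank_le (L_mono (nP_mono P zero_le_one)) ?_).symm
  have h := ell_le_one_of_deg_one hK hg (deg_eq_one hK) (le_of_eq (nP_deg hK P 1))
  have h0 : ell (nP P 0) = 1 := by rw [show nP P 0 = 0 by simp [nP]]; exact ell_zero hK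
  simp only [ell] at h h0 ⊢
  omega

theorem one_not_mem (hK : IsFunctionField k K) (hg : 1 ≤ genus k K) (P : Place k K) :
    1 ∉ poleOrders P := fun h => by
  obtain ⟨f, hf, hv⟩ := (mem_poleOrders hK P 1).1 h
  rw [Nat.cast_one, L_one hK hg] at hf
  have := (mem_LnP.1 hf).1
  rw [hv, exp_le_exp] at this
  simp at this

theorem zero_mem_poleOrders (hK : IsFunctionField k K) (P : Place k K) : 0 ∈ poleOrders P :=
  (mem_poleOrders hK P 0).2 ⟨1, mem_LnP.2 ⟨by simp, fun Q _ => by simp⟩, by simp⟩

theorem add_mem_poleOrders (hK : IsFunctionField k K) (P : Place k K) {m n : ℕ}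
    (hm : m ∈ poleOrders P) (hn : n ∈ poleOrders P) : m + n ∈ poleOrders P := by
  obtain ⟨f, hf, hv⟩ := (mem_poleOrders hK P m).1 hm
  obtain ⟨f', hf', hv'⟩ := (mem_poleOrders hK P n).1 hn
  refine (mem_poleOrders hK P _).2 ⟨f * f', ?_, by rw [map_mul, hv, hv', ← exp_add, Nat.cast_add]⟩
  have := mul_mem_L hf hf'
  rwa [← add_smul, ← Nat.cast_add] at this

theorem mem_closure_poleOrders (hK : IsFunctionField k K) (P : Place k K) (n : ℕ) :
    n ∈ AddSubmonoid.closure (poleOrders P) ↔ n ∈ poleOrders P := by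
  refine ⟨fun h => ?_, fun h => AddSubmonoid.subset_closure h⟩
  induction h using AddSubmonoid.closure_induction with
  | mem x hx => exact hx
  | zero => exact zero_mem_poleOrders hK P
  | add x y _ _ hx hy => exact add_mem_poleOrders hK P hx hy

theorem large_mem (hK : IsFunctionField k K) (P : Place k K) {n : ℕ} (h : 2 * genus k K ≤ n) :
    n ∈ poleOrders P := by
  have h1 := ell_eq_of_large hK (D := nP P n) (by rw [nP_deg hK]; omega)
  have h2 := ell_eq_of_large hK (D := nP P ((n : ℤ) - 1)) (by rw [nP_deg hK]; omega)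
  rw [nP_deg hK] at h1 h2
  show ell (nP P n) = ell (nP P ((n : ℤ) - 1)) + 1
  omega

theorem finite_minGens (hK : IsFunctionField k K) (P : Place k K) :
    (minGens (poleOrders P)).Finite := by
  refine (Set.finite_Iio (2 * (2 * genus k K + 1))).subset fun h ⟨_, _, hh⟩ => ?_
  by_contra hc
  rw [Set.mem_Iio, not_lt] at hc
  exact hh (2 * genus k K + 1) (large_mem hK P (by omega)) (h - (2 * genus k K + 1))
    (large_mem hK P (by omega)) (by omega) (by omega) (by omega)

/-! ### The residue map and the map to `k[X]` -/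

noncomputable def resEquiv (hK : IsFunctionField k K) (P : Place k K) :
    k ≃+* IsLocalRing.ResidueField P.O :=
  RingEquiv.ofBijective (algebraMap k (IsLocalRing.ResidueField P.O)) <| by
    have := finite_residue hK.1 P
    exact @IsAlgClosed.algebraMap_bijective_of_isIntegral k (IsLocalRing.ResidueField P.O) _ _ _ _ _
      (@Algebra.IsIntegral.of_finite k (IsLocalRing.ResidueField P.O) _ _ _ this)

noncomputable def res (hK : IsFunctionField k K) (P : Place k K) : P.O →+* k :=
  (resEquiv hK P).symm.toRingHom.comp (IsLocalRing.residue P.O)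

theorem res_algebraMap (hK : IsFunctionField k K) (P : Place k K) (c : k) :
    res hK P (algebraMap k P.O c) = c :=
  (resEquiv hK P).symm_apply_apply c

theorem res_eq_zero (hK : IsFunctionField k K) (P : Place k K) (o : P.O) :
    res hK P o = 0 ↔ P.1 (o : K) < 1 := by
  rw [← residue_eq_zero]
  exact map_eq_zero_iff _ (resEquiv hK P).symm.injective

noncomputable def pi (P : Place k K) : K := (exists_exp P (-1)).choose

theorem v_pi_pow (P : Place k K) (n : ℕ) : P.1 (pi P ^ n) = exp (-(n : ℤ)) := by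
  rw [map_pow, show P.1 (pi P) = exp (-1) from (exists_exp P (-1)).choose_spec.2, ← exp_nsmul]
  simp

theorem pi_ne (P : Place k K) : pi P ≠ 0 := (exists_exp P (-1)).choose_spec.1

noncomputable abbrev R (P : Place k K) := sectRing (Finsupp.single P 1 : Divisor k K)

theorem coeff_mem {P : Place k K} (p : R P) (n : ℕ) : (p : K[X]).coeff n ∈ L (nP P n) := p.2 n

/-- normalised coefficient -/
noncomputable def e {P : Place k K} (p : R P) (n : ℕ) : P.O :=
  ⟨(p : K[X]).coeff n * pi P ^ n, by
    show P.1 _ ≤ 1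
    rw [map_mul, v_pi_pow]
    refine (mul_le_mul_left (mem_LnP.1 (coeff_mem p n)).1 _).trans_eq ?_
    rw [← exp_add]
    simp⟩

noncomputable def psiFun (hK : IsFunctionField k K) {P : Place k K} (p : R P) : k[X] :=
  ∑ n ∈ (p : K[X]).support, monomial n (res hK P (e p n))

theorem psiFun_coeff (hK : IsFunctionField k K) {P : Place k K} (p : R P) (n : ℕ) :
    (psiFun hK p).coeff n = res hK P (e p n) := by
  simp only [psiFun, finsetSum_coeff, coeff_monomial, Finset.sum_ite_eq']
  split_ifs with h
  · rfl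
  · rw [Polynomial.mem_support_iff, not_not] at h
    rw [show e p n = 0 from Subtype.ext (by simp [e, h]), map_zero]

/-- `R_{X,P} → k[X]`, leading coefficient at `P` in each degree -/
noncomputable def psi (hK : IsFunctionField k K) (P : Place k K) : R P →ₐ[k] k[X] where
  toFun := psiFun hK
  map_one' := Polynomial.ext fun n => by
    rw [psiFun_coeff, Polynomial.coeff_one]
    split_ifs with h
    · subst h
      rw [show e (1 : R P) 0 = 1 from Subtype.ext (by simp [e]), map_one]
    · rw [show e (1 : R P) n = 0 from Subtype.ext (by simp [e, Polynomial.coeff_one, h]), map_zero]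
  map_mul' p q := Polynomial.ext fun n => by
    rw [psiFun_coeff, Polynomial.coeff_mul]
    simp only [psiFun_coeff, ← map_mul, ← map_sum]
    congr 1
    apply Subtype.ext
    simp only [AddSubmonoidClass.coe_finsetSum, MulMemClass.coe_mul, e, Polynomial.coeff_mul,
      Finset.sum_mul]
    refine Finset.sum_congr rfl fun x hx => ?_
    rw [← Finset.HasAntidiagonal.mem_antidiagonal.1 hx, pow_add]
    ring
  map_zero' := Polynomial.ext fun n => by
    rw [psiFun_coeff, show e (0 : R P) n = 0 from Subtype.ext (by simp [e]), map_zero, coeff_zero]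
  map_add' p q := Polynomial.ext fun n => by
    rw [coeff_add, psiFun_coeff, psiFun_coeff, psiFun_coeff, ← map_add]
    exact congrArg _ (Subtype.ext (by simp [e, add_mul]))
  commutes' c := Polynomial.ext fun n => by
    rw [psiFun_coeff, Polynomial.algebraMap_apply, Polynomial.coeff_C, Algebra.algebraMap_self,
      RingHom.id_apply]
    split_ifs with h
    · subst h
      rw [show e (algebraMap k (R P) c) 0 = algebraMap k P.O c from Subtype.ext (by
        simp [e]; rfl), res_algebraMap]
    · rw [show e (algebraMap k (R P) c) n = 0 from Subtype.ext (by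
        simp [e, Polynomial.coeff_C, h]), map_zero]

theorem psi_coeff (hK : IsFunctionField k K) {P : Place k K} (p : R P) (n : ℕ) :
    (psi hK P p).coeff n = res hK P (e p n) := psiFun_coeff hK p n

theorem psi_coeff_eq_zero (hK : IsFunctionField k K) {P : Place k K} (p : R P) (n : ℕ) :
    (psi hK P p).coeff n = 0 ↔ (p : K[X]).coeff n ∈ L (nP P ((n : ℤ) - 1)) := by
  rw [psi_coeff, res_eq_zero, mem_LnP]
  show P.1 ((p : K[X]).coeff n * pi P ^ n) < 1 ↔ _
  rw [map_mul, v_pi_pow, ← lt_exp_iff]
  constructor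
  · intro h
    refine ⟨?_, (mem_LnP.1 (coeff_mem p n)).2⟩
    have := mul_lt_mul_of_pos_right h (exp_pos (a := (n : ℤ)))
    rwa [mul_assoc, ← exp_add, neg_add_cancel, exp_zero, mul_one, one_mul] at this
  · intro h
    have := mul_lt_mul_of_pos_right h.1 (exp_pos (a := -(n : ℤ)))
    rwa [← exp_add, add_neg_cancel, exp_zero] at this

theorem mem_poleOrders_of_coeff (hK : IsFunctionField k K) {P : Place k K} (p : R P) (n : ℕ)
    (h : (psi hK P p).coeff n ≠ 0) : n ∈ poleOrders P := by
  refine (mem_poleOrders hK P n).2 ⟨_, coeff_mem p n, le_antisymm (mem_LnP.1 (coeff_mem p n)).1 ?_⟩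
  by_contra hc
  exact h ((psi_coeff_eq_zero hK p n).2
    (mem_LnP.2 ⟨(lt_exp_iff _ _).1 (not_le.1 hc), (mem_LnP.1 (coeff_mem p n)).2⟩))

/-- monomial of the section ring -/
noncomputable def mono {P : Place k K} (n : ℕ) (f : K) (hf : f ∈ L (nP P n)) : R P :=
  ⟨monomial n f, fun m => by
    rw [coeff_monomial]
    split_ifs with h
    · subst h; exact hf
    · exact zero_mem _⟩

theorem psi_mono (hK : IsFunctionField k K) {P : Place k K} (n : ℕ) (f : K) (hf : f ∈ L (nP P n)) :
    psi hK P (mono n f hf) = monomial n (res hK P (e (mono n f hf) n)) := Polynomial.ext fun m => by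
  rw [psi_coeff, coeff_monomial]
  split_ifs with h
  · subst h; rfl
  · rw [show e (mono n f hf) m = 0 from Subtype.ext (by simp [e, mono, coeff_monomial, h]), map_zero]

theorem exists_psi_eq (hK : IsFunctionField k K) {P : Place k K} {n : ℕ} (hn : n ∈ poleOrders P) :
    ∃ (f : K) (hf : f ∈ L (nP P n)), psi hK P (mono n f hf) = monomial n 1 := by
  obtain ⟨f, hf, hv⟩ := (mem_poleOrders hK P n).1 hn
  set c := res hK P (e (mono n f hf) n)
  have hc : c ≠ 0 := by
    intro h
    have := (psi_coeff_eq_zero hK (mono n f hf) n).1 (by rw [psi_coeff]; exact h)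
    have := (mem_LnP.1 this).1
    have e1 : ((mono n f hf : R P) : K[X]).coeff n = f := coeff_monomial_same n f
    rw [e1, hv, exp_le_exp] at this
    omega
  refine ⟨c⁻¹ • f, Submodule.smul_mem _ _ hf, ?_⟩
  have : mono n (c⁻¹ • f) (Submodule.smul_mem _ _ hf) = c⁻¹ • mono n f hf := Subtype.ext (by
    show monomial n (c⁻¹ • f) = c⁻¹ • monomial n f
    rw [Polynomial.smul_monomial])
  rw [this, map_smul, psi_mono, Polynomial.smul_monomial, smul_eq_mul, inv_mul_cancel₀ hc]

/-- the degree-one element `X` -/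
noncomputable def tX (P : Place k K) : R P :=
  ⟨X, fun m => by
    rw [coeff_X]
    split_ifs with h
    · subst h
      exact mem_LnP.2 ⟨by rw [map_one, ← exp_zero, exp_le_exp]; omega, fun Q _ => by simp⟩
    · exact zero_mem _⟩

theorem psi_tX (hK : IsFunctionField k K) (P : Place k K) : psi hK P (tX P) = 0 :=
  Polynomial.ext fun n => by
    rw [coeff_zero, psi_coeff_eq_zero]
    show (X : K[X]).coeff n ∈ _
    rw [coeff_X]
    split_ifs with h
    · subst h
      exact mem_LnP.2 ⟨by simp, fun Q _ => by simp⟩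
    · exact zero_mem _

theorem coeff_zero_eq_zero_of_psi (hK : IsFunctionField k K) {P : Place k K} (p : R P)
    (h : (psi hK P p).coeff 0 = 0) : (p : K[X]).coeff 0 = 0 := by
  have h' := (psi_coeff_eq_zero hK p 0).1 h
  have : L (nP P ((0 : ℕ) - 1 : ℤ)) = ⊥ := L_eq_bot_of_deg_neg hK.1 (by rw [nP_deg hK]; simp)
  rwa [this, Submodule.mem_bot] at h'

theorem ker_psi (hK : IsFunctionField k K) (P : Place k K) :
    RingHom.ker (psi hK P) = Ideal.span {tX P} := by
  refine le_antisymm (fun p hp => ?_) ((Ideal.span_singleton_le_iff_mem _).2 (psi_tX hK P))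
  rw [RingHom.mem_ker] at hp
  have h : ∀ n, (psi hK P p).coeff n = 0 := fun n => by rw [hp, coeff_zero]
  have hq : ∀ m : ℕ, ((p : K[X]).divX).coeff m ∈ L (nP P m) := fun m => by
    rw [coeff_divX]
    simpa using (psi_coeff_eq_zero hK p (m + 1)).1 (h (m + 1))
  rw [Ideal.mem_span_singleton']
  refine ⟨(⟨(p : K[X]).divX, hq⟩ : R P), Subtype.ext ?_⟩
  show (p : K[X]).divX * (X : K[X]) = (p : K[X])
  conv_rhs => rw [← Polynomial.divX_mul_X_add (p : K[X]), coeff_zero_eq_zero_of_psi hK p (h 0)]
  simp

end Groth.Agent.GrSect
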