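import Mathlib
import Groth.Agent.GrSect.Point

set_option autoImplicit false

open WithZero Polynomial

namespace Groth.Agent.GrSect

open FunFld W4c6gradedringsgw FunFldLib

variable {k K : Type*} [Field k] [IsAlgClosed k] [Field K] [Algebra k K]

/-- `k[H] → k[X]` -/
noncomputable def phi (S : AddSubmonoid ℕ) : AddMonoidAlgebra k S →ₐ[k] k[X] :=
  (Polynomial.toFinsuppIsoAlg k).symm.toAlgHom.comp (AddMonoidAlgebra.mapDomainAlgHom k k S.subtype)

omit [IsAlgClosed k] in
theorem phi_single (S : AddSubmonoid ℕ) (s : S) (c : k) :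
    phi S (AddMonoidAlgebra.single s c) = monomial (s : ℕ) c := by
  apply (Polynomial.toFinsuppIsoAlg k).injective
  simp only [phi, AlgHom.comp_apply, AlgEquiv.toAlgHom_eq_coe, AlgEquiv.coe_algHom, AlgEquiv.apply_symm_apply]
  simp [Polynomial.toFinsuppIsoAlg]

omit [IsAlgClosed k] in
theorem phi_injective (S : AddSubmonoid ℕ) : Function.Injective (phi (k := k) S) :=
  (Polynomial.toFinsuppIsoAlg k).symm.injective.comp
    (AddMonoidAlgebra.mapDomain_injective Subtype.val_injective)

theorem psi_mem_range (hK : IsFunctionField k K) {P : Place k K} (p : R P) :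
    psi hK P p ∈ (phi (AddSubmonoid.closure (poleOrders P))).range := by
  rw [(psi hK P p).as_sum_support]
  refine Subalgebra.sum_mem _ fun n hn => ?_
  rw [AlgHom.mem_range]
  exact ⟨AddMonoidAlgebra.single ⟨n, AddSubmonoid.subset_closure
    (mem_poleOrders_of_coeff hK p n (Polynomial.mem_support_iff.1 hn))⟩ _, phi_single _ _ _⟩

theorem exists_theta (hK : IsFunctionField k K) (P : Place k K) :
    ∃ θ : R P →ₐ[k] AddMonoidAlgebra k (AddSubmonoid.closure (poleOrders P)),
      Function.Surjective θ ∧ RingHom.ker θ = RingHom.ker (psi hK P) := by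
  set E := AlgEquiv.ofInjective (phi (k := k) (AddSubmonoid.closure (poleOrders P))) (phi_injective _)
  refine ⟨E.symm.toAlgHom.comp ((psi hK P).codRestrict _ (psi_mem_range hK)), ?_, ?_⟩
  · rw [← AlgHom.range_eq_top, eq_top_iff]
    intro x hx
    clear hx
    induction x using AddMonoidAlgebra.induction_linear with
    | zero => exact zero_mem _
    | add a b ha hb => exact add_mem ha hb
    | single s c =>
      obtain ⟨f, hf, hp⟩ := exists_psi_eq hK ((mem_closure_poleOrders hK P s).1 s.2)
      refine ⟨c • mono (s : ℕ) f hf, E.injective ?_⟩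
      apply Subtype.ext
      simp [E, phi_single, hp, Polynomial.smul_monomial]
  · ext p
    simp only [RingHom.mem_ker, AlgHom.comp_apply]
    constructor
    · intro h
      have := congrArg (fun x => (E x).1) h
      simpa [E] using this
    · intro h
      rw [show (psi hK P).codRestrict _ (psi_mem_range hK) p = 0 from Subtype.ext h, map_zero]

/-- the irrelevant ideal -/
noncomputable abbrev irr (P : Place k K) : Ideal (R P) :=
  RingHom.ker (Polynomial.constantCoeff.comp (R P).val.toRingHom)

omit [IsAlgClosed k] in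
theorem mem_irr {P : Place k K} (p : R P) : p ∈ irr P ↔ (p : K[X]).coeff 0 = 0 := Iff.rfl

theorem exists_span_irr (hK : IsFunctionField k K) (P : Place k K) :
    ∃ gens : Set (R P), gens.Finite ∧ gens.ncard ≤ (minGens (poleOrders P)).ncard + 1 ∧
      Ideal.span gens = irr P := by
  classical
  set G := minGens (poleOrders P)
  choose f hf hp using fun h : G => exists_psi_eq hK h.2.1
  have hfin : Finite G := (finite_minGens hK P).to_subtype
  set r : G → R P := fun h => mono (h : ℕ) (f h) (hf h)
  refine ⟨insert (tX P) (Set.range r), (Set.finite_range r).insert _, ?_, ?_⟩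
  · refine (Set.ncard_insert_le _ _).trans (Nat.add_le_add_right ?_ 1)
    rw [← Nat.card_coe_set_eq, ← Nat.card_coe_set_eq]
    exact Finite.card_range_le r
  refine le_antisymm (Ideal.span_le.2 ?_) ?_
  · rintro x (rfl | ⟨h, rfl⟩)
    · exact (mem_irr _).2 (by simp [tX])
    · exact (mem_irr _).2 (by simp [r, mono, coeff_monomial, h.2.2.1])
  set I := Ideal.span (insert (tX P) (Set.range r))
  have hlift : ∀ n ∈ poleOrders P, n ≠ 0 → ∃ s ∈ I, psi hK P s = monomial n 1 := by
    intro n
    induction n using Nat.strong_induction_on with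
    | _ n ih =>
      intro hn h0
      by_cases hg : ∀ a ∈ poleOrders P, ∀ b ∈ poleOrders P, a ≠ 0 → b ≠ 0 → a + b ≠ n
      · exact ⟨r ⟨n, hn, h0, hg⟩, Ideal.subset_span (Or.inr ⟨_, rfl⟩), hp _⟩
      · push Not at hg
        obtain ⟨a, ha, b, hb, ha0, hb0, hab⟩ := hg
        obtain ⟨s, hs, hsp⟩ := ih a (by omega) ha ha0
        obtain ⟨s', hs', hsp'⟩ := ih b (by omega) hb hb0
        exact ⟨s * s', I.mul_mem_right _ hs, by
          rw [map_mul, hsp, hsp', monomial_mul_monomial, hab, one_mul]⟩
  intro p hpm
  rw [mem_irr] at hpm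
  have hmem : ∀ n ∈ (psi hK P p).support, ∃ s ∈ I, psi hK P s = monomial n ((psi hK P p).coeff n) := by
    intro n hn
    rw [Polynomial.mem_support_iff] at hn
    have h0 : n ≠ 0 := by
      rintro rfl
      exact hn ((psi_coeff_eq_zero hK p 0).2 (by rw [hpm]; exact zero_mem _))
    obtain ⟨s, hs, hsp⟩ := hlift n (mem_poleOrders_of_coeff hK p n hn) h0
    refine ⟨(psi hK P p).coeff n • s, Submodule.smul_of_tower_mem I _ hs, ?_⟩
    rw [map_smul, hsp, Polynomial.smul_monomial, smul_eq_mul, mul_one]
  choose s hs hsp using hmem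
  have hsum : ∑ n ∈ (psi hK P p).support.attach, s n.1 n.2 ∈ I := I.sum_mem fun n _ => hs _ _
  have hker : p - ∑ n ∈ (psi hK P p).support.attach, s n.1 n.2 ∈ RingHom.ker (psi hK P) := by
    rw [RingHom.mem_ker, map_sub, map_sum]
    simp only [hsp]
    rw [Finset.sum_attach _ fun n => monomial n ((psi hK P p).coeff n),
      ← (psi hK P p).as_sum_support, sub_self]
  rw [ker_psi] at hker
  have : p - ∑ n ∈ (psi hK P p).support.attach, s n.1 n.2 ∈ I :=
    Ideal.span_mono (by simp) hker
  simpa using I.add_mem this hsum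

/-- coefficient of degree one, a constant -/
noncomputable def c1 (hK : IsFunctionField k K) (hg : 1 ≤ genus k K) {P : Place k K} (p : R P) : P.O :=
  ⟨(p : K[X]).coeff 1, by
    have := (mem_LnP.1 (L_one hK hg P ▸ coeff_mem p 1)).1
    rwa [exp_zero] at this⟩

/-- linear functionals separating generators -/
noncomputable def Lam (hK : IsFunctionField k K) (hg : 1 ≤ genus k K) (P : Place k K) :
    R P →ₗ[k] (Option (minGens (poleOrders P)) → k) where
  toFun p o := o.elim (res hK P (c1 hK hg p)) fun h => (psi hK P p).coeff (h : ℕ)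
  map_add' p q := funext fun o => by
    cases o with
    | none =>
      show res hK P _ = res hK P _ + res hK P _
      rw [← map_add]
      exact congrArg _ (Subtype.ext (Polynomial.coeff_add _ _ _))
    | some h => simp
  map_smul' c p := funext fun o => by
    cases o with
    | none =>
      show res hK P _ = c * res hK P _
      conv_rhs => rw [← res_algebraMap hK P c, ← map_mul]
      refine congrArg _ (Subtype.ext ?_)
      show ((c • p : R P) : K[X]).coeff 1 = algebraMap k K c * (p : K[X]).coeff 1
      rw [← Algebra.smul_def]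
      exact Polynomial.coeff_smul c _ 1
    | some h => simp

theorem Lam_mul (hK : IsFunctionField k K) (hg : 1 ≤ genus k K) {P : Place k K} (a : R P) {b : R P}
    (hb : b ∈ irr P) : Lam hK hg P (a * b) = (psi hK P a).coeff 0 • Lam hK hg P b := by
  rw [mem_irr] at hb
  funext o
  cases o with
  | none =>
    show res hK P _ = (psi hK P a).coeff 0 * res hK P _
    rw [psi_coeff, ← map_mul]
    refine congrArg _ (Subtype.ext ?_)
    show ((a : K[X]) * (b : K[X])).coeff 1 = ((a : K[X]).coeff 0 * pi P ^ 0) * (b : K[X]).coeff 1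
    rw [pow_zero, mul_one, Polynomial.coeff_mul, Finset.Nat.sum_antidiagonal_eq_sum_range_succ_mk]
    simp [Finset.sum_range_succ, hb]
  | some h =>
    show (psi hK P (a * b)).coeff (h : ℕ) = (psi hK P a).coeff 0 * (psi hK P b).coeff (h : ℕ)
    rw [map_mul, Polynomial.coeff_mul, Finset.sum_eq_single (0, (h : ℕ))]
    · intro x hx hne
      by_contra hc
      obtain ⟨h1, h2⟩ := mul_ne_zero_iff.1 hc
      have e := Finset.HasAntidiagonal.mem_antidiagonal.1 hx
      have hx1 : x.1 ≠ 0 := fun h' => hne (Prod.ext h' (by simpa [h'] using e))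
      have hx2 : x.2 ≠ 0 := fun h' => h2 (by
        rw [h']
        exact (psi_coeff_eq_zero hK b 0).2 (by rw [hb]; exact zero_mem _))
      exact h.2.2.2 _ (mem_poleOrders_of_coeff hK a _ h1) _ (mem_poleOrders_of_coeff hK b _ h2) hx1 hx2 e
    · simp

theorem spanFinrank_irrelevant (hK : IsFunctionField k K) (hg : 1 ≤ genus k K) (P : Place k K) :
    (irr P).spanFinrank = (minGens (poleOrders P)).ncard + 1 := by
  classical
  obtain ⟨gens, hfin, hcard, hspan⟩ := exists_span_irr hK P
  refine le_antisymm ?_ ?_
  · rw [← hspan]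
    exact (Submodule.spanFinrank_span_le_ncard_of_finite hfin).trans hcard
  have hfg : (irr P).FG := hspan ▸ Submodule.fg_span hfin
  have hGfin := Submodule.FG.finite_generators hfg
  rw [← Submodule.FG.generators_ncard hfg]
  have : Finite (minGens (poleOrders P)) := (finite_minGens hK P).to_subtype
  have := Fintype.ofFinite (minGens (poleOrders P))
  set V := Submodule.span k (Lam hK hg P '' (irr P).generators)
  have hV : ∀ p ∈ irr P, Lam hK hg P p ∈ V := by
    intro p hp
    rw [← (irr P).span_generators] at hp
    refine (Submodule.span_induction (p := fun x _ => x ∈ irr P ∧ Lam hK hg P x ∈ V) ?_ ?_ ?_ ?_ hp).2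
    · exact fun x hx => ⟨Submodule.FG.generators_mem _ hx, Submodule.subset_span ⟨x, hx, rfl⟩⟩
    · exact ⟨zero_mem _, by simp⟩
    · exact fun x y _ _ h1 h2 => ⟨add_mem h1.1 h2.1, by simpa using add_mem h1.2 h2.2⟩
    · exact fun a x _ h => ⟨Ideal.mul_mem_left _ a h.1, by
        rw [smul_eq_mul, Lam_mul hK hg a h.1]; exact V.smul_mem _ h.2⟩
  have htop : (⊤ : Submodule k (Option (minGens (poleOrders P)) → k)) ≤ V := by
    rw [← (Pi.basisFun k _).span_eq, Submodule.span_le]
    rintro _ ⟨o, rfl⟩
    cases o with
    | none =>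
      have key : Pi.basisFun k _ none = Lam hK hg P (tX P) := funext fun o => by
        cases o with
        | none =>
          show _ = res hK P _
          rw [show c1 hK hg (tX P) = 1 from Subtype.ext (by simp [c1, tX]), map_one]
          simp
        | some h => simp [Lam, psi_tX]
      rw [SetLike.mem_coe, key]
      exact hV (tX P) ((mem_irr _).2 (by simp [tX]))
    | some g =>
      obtain ⟨f, hf, hp⟩ := exists_psi_eq hK g.2.1
      have key : Pi.basisFun k _ (some g) = Lam hK hg P (mono (g : ℕ) f hf) := funext fun o => by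
        cases o with
        | none =>
          have hg1 : (g : ℕ) ≠ 1 := fun h => one_not_mem hK hg P (h ▸ g.2.1)
          show _ = res hK P _
          rw [show c1 hK hg (mono (g : ℕ) f hf) = 0 from
            Subtype.ext (by simp [c1, mono, coeff_monomial, hg1]), map_zero]
          simp
        | some h =>
          simp [Lam, hp, coeff_monomial, Pi.single_apply, Subtype.ext_iff, eq_comm]
      rw [SetLike.mem_coe, key]
      exact hV _ ((mem_irr _).2 (by simp [mono, coeff_monomial, g.2.2.1]))
  have h1 := Submodule.finrank_mono htop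
  rw [finrank_top, Module.finrank_pi] at h1
  rw [Fintype.card_option, ← Nat.card_eq_fintype_card, Nat.card_coe_set_eq] at h1
  refine h1.trans ?_
  have hi := hGfin.image (Lam hK hg P)
  have := hi.fintype
  refine (finrank_span_le_card _ (R := k)).trans ?_
  rw [← Set.ncard_eq_toFinset_card']
  exact Set.ncard_image_le hGfin

end Groth.Agent.GrSect
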